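import Groth.Agent.S14439
import Groth.Agent.ASB.Inv
import Groth.Agent.KRRReg.Exact
import Groth.Agent.H9Quot.FinExt
import Groth.Agent.Lib.KoszulChop
import Groth.Agent.HilbBound.Bound
import Mathlib.LinearAlgebra.TensorProduct.Basis
import Groth.Agent.KZ.CohClass
import Groth.Agent.H23.PicMul

/-!
# Gaeta resolutions on the projective plane
-/

set_option autoImplicit false
set_option linter.style.haveILetI false
set_option linter.unusedSectionVars false
set_option backward.isDefEq.respectTransparency false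
set_option backward.isDefEq.respectTransparency.types false
set_option maxHeartbeats 400000

universe u

open CategoryTheory CategoryTheory.Limits AlgebraicGeometry TopologicalSpace Opposite TensorProduct

noncomputable section

namespace Groth.Agent.GaetaP2

open Groth.Agent Groth.Agent.RegEpi Groth.Agent.PnCoh.Finite Groth.Agent.ProjRegular

variable {k : Type u} [Field k]

local notation "P2" => Proj (CohB1.polyGrading 2 k)
local notation "OP" => Coh.structureModule (Proj (CohB1.polyGrading 2 k))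
local notation "Ptw" => Twist.twist (CohB1.polyGrading 2 k)

/-- Vanishing of a cohomology group. -/
abbrev Van (q : ℕ) (M : (Proj (CohB1.polyGrading 2 k)).Modules) : Prop :=
  Subsingleton (Coh.HH (Proj (CohB1.polyGrading 2 k)) M q)

theorem van_tw_sum (b : ℕ) (a d : ℤ) (q : ℕ) (h₀ : ¬(q = 0 ∧ 0 ≤ a + d)) (hn : ¬(q = 2 ∧ a + d ≤ -3)) :
    Van q ((twF (k := k) (n := 2) d).obj (∐ fun _ : Fin b => Ptw a)) := by
  obtain ⟨e⟩ := twF_sigma_iso (k := k) (n := 2) b a d
  exact QCoh.subsingleton_HH_of_iso e.symm q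
    (subsingleton_HH_sigma_twist (k := k) (n := 2) b _ q h₀ (fun h => hn ⟨h.1, by omega⟩))

theorem van_O_sum (b : ℕ) (d : ℤ) (q : ℕ) (h₀ : ¬(q = 0 ∧ 0 ≤ d)) (hn : ¬(q = 2 ∧ d ≤ -3)) :
    Van q ((twF (k := k) (n := 2) d).obj (∐ fun _ : Fin b => OP)) := by
  obtain ⟨e⟩ := twF_sigma_unit_iso (k := k) (n := 2) b d
  exact QCoh.subsingleton_HH_of_iso e.symm q
    (subsingleton_HH_sigma_twist (k := k) (n := 2) b _ q h₀ (fun h => hn ⟨h.1, by omega⟩))

/-- The twist of a short exact sequence, with explicit terms. -/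
theorem twSES {A B C : (Proj (CohB1.polyGrading 2 k)).Modules} {f : A ⟶ B} {g : B ⟶ C} {w : f ≫ g = 0}
    (h : (ShortComplex.mk f g w).ShortExact) (d : ℤ) :
    (ShortComplex.mk ((twF (k := k) (n := 2) d).map f) ((twF (k := k) (n := 2) d).map g)
      (by rw [← Functor.map_comp, w, Functor.map_zero])).ShortExact :=
  RegDescent.twSeq_exact (coords k 2) coords_mem coords_cover h d

theorem van_biprod {A B : (Proj (CohB1.polyGrading 2 k)).Modules} (d : ℤ) (q : ℕ)
    (h1 : Van q ((twF (k := k) (n := 2) d).obj A)) (h3 : Van q ((twF (k := k) (n := 2) d).obj B)) :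
    Van q ((twF (k := k) (n := 2) d).obj (A ⊞ B)) := by
  have hs := twSES (ShortComplex.Splitting.ofHasBinaryBiproduct A B).shortExact d
  exact QCoh.subsingleton_HH_X₂ hs q h1 h3

theorem van_mid (a b : ℕ) (d : ℤ) (q : ℕ) (h₀ : ¬(q = 0 ∧ 0 ≤ d)) (hn : ¬(q = 2 ∧ d ≤ -2)) :
    Van q ((twF (k := k) (n := 2) d).obj ((∐ fun _ : Fin a => Ptw (-1)) ⊞ (∐ fun _ : Fin b => OP))) := by
  have h1 := van_tw_sum (k := k) a (-1) d q (fun h => h₀ ⟨h.1, by have := h.2; omega⟩)
    (fun h => hn ⟨h.1, by have := h.2; omega⟩)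
  have h3 := van_O_sum (k := k) b d q h₀ (fun h => hn ⟨h.1, by have := h.2; omega⟩)
  exact van_biprod d q h1 h3

theorem nonempty_tw_line (d : ℤ) : Nonempty ((twF (k := k) (n := 2) d).obj (Ptw (-d)) ≅ OP) := by
  obtain ⟨φ⟩ := twist_tensor_iso (coords k 2) coords_mem coords_cover (-d) d
  obtain ⟨ψ⟩ := unitIso (k := k) (n := 2)
  exact ⟨φ ≪≫ eqToIso (by rw [neg_add_cancel]) ≪≫ ψ.symm⟩

/-- Surjectivity on maps out of a twist becomes surjectivity on sections of the twist. -/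
theorem surj_tw {A B : (Proj (CohB1.polyGrading 2 k)).Modules} (Φ : A ⟶ B) (d : ℤ)
    (h : ∀ g : Ptw (-d) ⟶ B, ∃ ψ, ψ ≫ Φ = g) :
    Function.Surjective (((twF (k := k) (n := 2) d).map Φ).app ⊤) := by
  intro t
  obtain ⟨θ⟩ := nonempty_tw_line (k := k) d
  obtain ⟨g, hg⟩ := (twF (k := k) (n := 2) d).map_surjective (θ.hom ≫ InvX.ofSect t)
  obtain ⟨ψ, rfl⟩ := h g
  refine ⟨one (θ.inv ≫ (twF (k := k) (n := 2) d).map ψ), ?_⟩
  show one ((θ.inv ≫ (twF (k := k) (n := 2) d).map ψ) ≫ (twF (k := k) (n := 2) d).map Φ) = t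
  rw [Category.assoc, ← Functor.map_comp, hg, θ.inv_hom_id_assoc, one_ofSect]

theorem hom_zero_of_van {M : (Proj (CohB1.polyGrading 2 k)).Modules} (h : Van 0 M) (φ : OP ⟶ M) : φ = 0 :=
  (evalOneLin_bijective k M).1 (h.elim _ _)

theorem van_of_hom_zero {M : (Proj (CohB1.polyGrading 2 k)).Modules} (h : ∀ φ : OP ⟶ M, φ = 0) : Van 0 M := by
  refine subsingleton_of_forall_eq 0 fun x => ?_
  obtain ⟨φ, rfl⟩ := (evalOneLin_bijective k M).2 x
  rw [h φ, map_zero]

/-- No maps out of a twist means no sections of the twist. -/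
theorem van_tw_of_hom_zero {A : (Proj (CohB1.polyGrading 2 k)).Modules} (d : ℤ)
    (h : ∀ g : Ptw (-d) ⟶ A, g = 0) : Van 0 ((twF (k := k) (n := 2) d).obj A) := by
  refine van_of_hom_zero fun φ => ?_
  obtain ⟨θ⟩ := nonempty_tw_line (k := k) d
  obtain ⟨g, hg⟩ := (twF (k := k) (n := 2) d).map_surjective (θ.hom ≫ φ)
  rw [h g, Functor.map_zero] at hg
  rw [← θ.inv_hom_id_assoc φ, ← hg, comp_zero]

/-- No sections of the twist means no maps out of the twist. -/
theorem hom_zero_of_van_tw {A : (Proj (CohB1.polyGrading 2 k)).Modules} (d : ℤ)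
    (h : Van 0 ((twF (k := k) (n := 2) d).obj A)) (g : Ptw (-d) ⟶ A) : g = 0 := by
  obtain ⟨θ⟩ := nonempty_tw_line (k := k) d
  apply (twF (k := k) (n := 2) d).map_injective
  rw [Functor.map_zero, ← θ.hom_inv_id_assoc ((twF (k := k) (n := 2) d).map g),
    hom_zero_of_van h (θ.inv ≫ (twF (k := k) (n := 2) d).map g), comp_zero]

theorem isCoh_line (a : ℤ) : Coh.IsCoh (Ptw a) :=
  CurveDeg.isCoh_of_isInvertible (isInvertible_twist (coords k 2) coords_mem coords_cover a)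

theorem isCoh_O : Coh.IsCoh OP := by
  obtain ⟨φ⟩ := unitIso (k := k) (n := 2)
  exact SheafHomX.isCoh_of_iso φ.symm (isCoh_line 0)

theorem isCoh_mid (a b : ℕ) : Coh.IsCoh ((∐ fun _ : Fin a => Ptw (-1)) ⊞ (∐ fun _ : Fin b => OP)) := by
  haveI : AlgebraicGeometry.IsNoetherian P2 := Proj16.isNoetherian_proj _
  exact KZ.isCoh_X₂ (ShortComplex.Splitting.ofHasBinaryBiproduct (∐ fun _ : Fin a => Ptw (-1))
    (∐ fun _ : Fin b => OP)).shortExact (isCoh_sigma_twist a (-1)) (Syzygy.isCoh_sigma_O b)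

theorem finite_hom' {A B : (Proj (CohB1.polyGrading 2 k)).Modules} (hA : Coh.IsCoh A) (hB : Coh.IsCoh B) :
    Module.Finite k (A ⟶ B) :=
  haveI : IsProper (P2 ↘ Spec (CommRingCat.of k)) := PnCoh.Chow.isProper_toSpec 2 k
  H9Quot.finite_hom hA hB

/-- Endomorphisms of a line bundle on the plane are scalars. -/
theorem endo_line (a : ℤ) (v : Ptw a ⟶ Ptw a) : ∃ c : k, v = c • 𝟙 (Ptw a) := by
  obtain ⟨s, rfl⟩ := ASB.exists_smulModΓ (isInvertible_twist (coords k 2) coords_mem coords_cover a) v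
  obtain ⟨c, hc⟩ := Syzygy.endo_eq_smul_id (k := k) (S14439.hyp k 2).one (Formal.smulModΓ OP s)
  rw [KLin.smul_id] at hc
  obtain ⟨φ⟩ := unitIso (k := k) (n := 2)
  have hO : PicF.IsInvertible OP :=
    H23.PicMul.isInvertible_of_iso φ.symm (isInvertible_twist (coords k 2) coords_mem coords_cover 0)
  refine ⟨c, ?_⟩
  rw [ASB.smulModΓ_injective hO hc, KLin.smul_id]
  rfl

/-- The twisted kernel of an epimorphism. -/
theorem twSeq_kernel {A B : (Proj (CohB1.polyGrading 2 k)).Modules} (Φ : A ⟶ B) [Epi Φ] (d : ℤ) :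
    (ShortComplex.mk ((twF (k := k) (n := 2) d).map (kernel.ι Φ)) ((twF (k := k) (n := 2) d).map Φ)
      (by rw [← Functor.map_comp, kernel.condition, Functor.map_zero])).ShortExact :=
  twSES (w := kernel.condition Φ) { exact := ShortComplex.exact_of_f_is_kernel _ (kernelIsKernel Φ) } d

theorem van_kernel_succ {A B : (Proj (CohB1.polyGrading 2 k)).Modules} (Φ : A ⟶ B) [Epi Φ] (d : ℤ) (q : ℕ)
    (h2 : Van (q + 1) ((twF (k := k) (n := 2) d).obj A)) (h3 : Van q ((twF (k := k) (n := 2) d).obj B)) :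
    Van (q + 1) ((twF (k := k) (n := 2) d).obj (kernel Φ)) :=
  Syzygy.subsingleton_HH_succ_X₁ (k := k) (twSeq_kernel Φ d) q h2 h3

theorem subsingleton_one_gen {X : Scheme.{u}} {A B C : X.Modules} {f : A ⟶ B} {g : B ⟶ C} {w : f ≫ g = 0}
    (hS : (ShortComplex.mk f g w).ShortExact) (h₂ : Subsingleton (Coh.HH X B 1))
    (hs : Function.Surjective (g.app ⊤)) : Subsingleton (Coh.HH X A 1) :=
  KRRReg.subsingleton_HH_X₁_one hS h₂ hs

theorem van_kernel_one {A B : (Proj (CohB1.polyGrading 2 k)).Modules} (Φ : A ⟶ B) [Epi Φ] (d : ℤ)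
    (h2 : Van 1 ((twF (k := k) (n := 2) d).obj A))
    (hs : Function.Surjective (((twF (k := k) (n := 2) d).map Φ).app ⊤)) :
    Van 1 ((twF (k := k) (n := 2) d).obj (kernel Φ)) := by
  have hx := twSeq_kernel Φ d
  exact subsingleton_one_gen hx h2 hs

theorem van_untw {M : (Proj (CohB1.polyGrading 2 k)).Modules} (q : ℕ)
    (h : Van q ((twF (k := k) (n := 2) 0).obj M)) : Van q M := by
  obtain ⟨e⟩ := twF_zero_iso (k := k) (n := 2) M
  exact QCoh.subsingleton_HH_of_iso e q h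

theorem van_tw0 {M : (Proj (CohB1.polyGrading 2 k)).Modules} (q : ℕ) (h : Van q M) :
    Van q ((twF (k := k) (n := 2) 0).obj M) := by
  obtain ⟨e⟩ := twF_zero_iso (k := k) (n := 2) M
  exact QCoh.subsingleton_HH_of_iso e.symm q h

theorem van_twtw {M : (Proj (CohB1.polyGrading 2 k)).Modules} (a b c : ℤ) (h : c = a + b) (q : ℕ)
    (hv : Van q ((twF (k := k) (n := 2) c).obj M)) :
    Van q ((twF (k := k) (n := 2) b).obj ((twF (k := k) (n := 2) a).obj M)) := by
  obtain ⟨e⟩ := twF_twF_iso (k := k) (n := 2) M a b c h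
  exact QCoh.subsingleton_HH_of_iso e.symm q hv

/-- Generation by a twist from regularity. -/
theorem ggen_of_van {M : (Proj (CohB1.polyGrading 2 k)).Modules} (hM : Coh.IsCoh M) (m : ℤ)
    (h1 : Van 1 ((twF (k := k) (n := 2) (m - 1)).obj M)) (h2 : Van 2 ((twF (k := k) (n := 2) (m - 2)).obj M)) :
    Curv2.IsGloballyGenerated ((twF (k := k) (n := 2) m).obj M) ∧
      Reg0 (𝒜 := CohB1.polyGrading 2 k) ((twF (k := k) (n := 2) m).obj M) := by
  have hR : Curv2.IsMRegular k 2 M m := by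
    intro i hi hi2
    rcases (show i = 1 ∨ i = 2 by omega) with rfl | rfl
    · exact h1
    · exact h2
  have hR' := reg0_of_isMRegular hM hR
  exact ⟨ProjRegular.isGloballyGenerated coords_mem coords_cover coords_noetherian
    (good_twistBy hM m) hR', hR'⟩

/-- Everything vanishes. -/
theorem isZero_of_ggen {M : (Proj (CohB1.polyGrading 2 k)).Modules} (hg : Curv2.IsGloballyGenerated M)
    (h0 : Van 0 M) : IsZero M := by
  obtain ⟨ι, p, hp⟩ := hg
  haveI : Epi p := hp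
  exact IsZero.of_epi_eq_zero p (Sigma.hom_ext _ _ fun i => (hom_zero_of_van h0 _).trans comp_zero.symm)

/-- A coherent sheaf with the vanishing of a sum of copies of `O(-2)` is one. -/
theorem exists_iso_sum {K : (Proj (CohB1.polyGrading 2 k)).Modules} (hK : Coh.IsCoh K)
    (h0 : Van 0 ((twF (k := k) (n := 2) 1).obj K)) (h1 : Van 1 ((twF (k := k) (n := 2) 1).obj K))
    (h10 : Van 1 K) (h20 : Van 2 K) : ∃ a : ℕ, Nonempty (K ≅ ∐ fun _ : Fin a => Ptw (-2)) := by
  haveI : AlgebraicGeometry.IsNoetherian P2 := Proj16.isNoetherian_proj _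
  have hK2 : Coh.IsCoh ((twF (k := k) (n := 2) 2).obj K) := isCoh_twistBy hK 2
  haveI := (S14439.hyp k 2).fin _ hK2
  obtain ⟨a, ψ, hψ, hg, -⟩ := Syzygy.exists_sigma_hom_bijective (k := k) (S14439.hyp k 2).one
    ((twF (k := k) (n := 2) 2).obj K)
  obtain ⟨hgg, -⟩ := ggen_of_van hK 2 (by rw [show (2 : ℤ) - 1 = 1 by norm_num]; exact h1)
    (by rw [show (2 : ℤ) - 2 = 0 by norm_num]; exact van_tw0 2 h20)
  haveI : Epi ψ := hg hgg
  have hK' : Coh.IsCoh (kernel ψ) := QCoh.isCoh_kernel (Syzygy.isCoh_sigma_O a) hK2 ψ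
  have hS : (ShortComplex.mk (kernel.ι ψ) ψ (kernel.condition ψ)).ShortExact :=
    { exact := ShortComplex.exact_of_f_is_kernel _ (kernelIsKernel ψ) }
  have hz0 : Van 0 (kernel ψ) := Syzygy.subsingleton_HH_zero_X₁ (k := k) hS hψ.1
  have hm1 := van_O_sum (k := k) a (0 - 1) 1 (fun h => absurd h.1 (by decide)) (fun h => absurd h.1 (by decide))
  have hz1 : Van 1 ((twF (k := k) (n := 2) (0 - 1)).obj (kernel ψ)) :=
    van_kernel_succ ψ (0 - 1) 0 hm1 (van_twtw 2 (0 - 1) 1 (by norm_num) 0 h0)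
  have hm2 := van_O_sum (k := k) a (0 - 2) 2 (fun h => absurd h.1 (by decide))
    (fun h => absurd h.2 (by norm_num))
  have hz2 : Van 2 ((twF (k := k) (n := 2) (0 - 2)).obj (kernel ψ)) :=
    van_kernel_succ ψ (0 - 2) 1 hm2 (van_twtw 2 (0 - 2) 0 (by norm_num) 1 (van_tw0 1 h10))
  have hzero : IsZero (kernel ψ) := by
    obtain ⟨e⟩ := twF_zero_iso (k := k) (n := 2) (kernel ψ)
    exact IsZero.of_iso (isZero_of_ggen (ggen_of_van hK' 0 hz1 hz2).1 (van_tw0 0 hz0)) e.symm
  haveI : Mono ψ := Preadditive.mono_of_kernel_zero (hzero.eq_of_src _ _)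
  haveI : IsIso ψ := isIso_of_mono_of_epi ψ
  obtain ⟨e1⟩ := twF_twF_iso (k := k) (n := 2) K 2 (-2) 0 (by norm_num)
  obtain ⟨e2⟩ := twF_zero_iso (k := k) (n := 2) K
  obtain ⟨e3⟩ := twF_sigma_unit_iso (k := k) (n := 2) a (-2)
  exact ⟨a, ⟨(e1 ≪≫ e2).symm ≪≫ (twF (k := k) (n := 2) (-2)).mapIso (asIso ψ).symm ≪≫ e3⟩⟩

theorem eq_sum_components {C : Type*} [Category C] [Preadditive C] {A : C} {b : ℕ} (T : Fin b → C)
    [HasBiproduct T] [HasCoproduct T] (χ : A ⟶ ∐ T) :
    χ = ∑ i, (χ ≫ (biproduct.isoCoproduct T).inv ≫ biproduct.π T i) ≫ Sigma.ι T i := by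
  have ht : ∀ i, (biproduct.isoCoproduct T).inv ≫ biproduct.π T i ≫ Sigma.ι T i =
      (biproduct.isoCoproduct T).inv ≫ (biproduct.π T i ≫ biproduct.ι T i) ≫ (biproduct.isoCoproduct T).hom :=
    fun i => by simp
  calc χ = χ ≫ (biproduct.isoCoproduct T).inv ≫ (∑ j, biproduct.π T j ≫ biproduct.ι T j) ≫
        (biproduct.isoCoproduct T).hom := by
          rw [biproduct.total, Category.id_comp, Iso.inv_hom_id, Category.comp_id]
    _ = _ := by
          simp only [Preadditive.sum_comp, Preadditive.comp_sum, Category.assoc, ht]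

section Generic

variable {C : Type*} [Category C] [Preadditive C] {P Q W : C}

theorem comp_desc [HasBinaryBiproduct P Q] {R : C} (h : R ⟶ P ⊞ Q) (f : P ⟶ W) (g : Q ⟶ W) :
    h ≫ biprod.desc f g = (h ≫ biprod.fst) ≫ f + (h ≫ biprod.snd) ≫ g := by
  rw [biprod.desc_eq, Preadditive.comp_add, Category.assoc, Category.assoc]

theorem eq_biprod [HasBinaryBiproduct P Q] {R : C} (h : R ⟶ P ⊞ Q) :
    h = (h ≫ biprod.fst) ≫ biprod.inl + (h ≫ biprod.snd) ≫ biprod.inr := by
  rw [Category.assoc, Category.assoc, ← Preadditive.comp_add, biprod.total, Category.comp_id]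

theorem sum_comp_desc {b : ℕ} (T : Fin b → C) [HasCoproduct T] {R : C} (x : ∀ i, R ⟶ T i) (f : ∀ i, T i ⟶ W) :
    (∑ i, x i ≫ Sigma.ι T i) ≫ Sigma.desc f = ∑ i, x i ≫ f i := by
  simp [Preadditive.sum_comp]

theorem smul_sum_comp_desc {k : Type*} [Semiring k] [Linear k C] {b : ℕ} [HasCoproduct fun _ : Fin b => P]
    (c : Fin b → k) (f : Fin b → (P ⟶ W)) :
    (∑ i, c i • Sigma.ι (fun _ : Fin b => P) i) ≫ Sigma.desc f = ∑ i, c i • f i := by
  simp [Preadditive.sum_comp]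

theorem smul_sum_comp {k : Type*} [Semiring k] [Linear k C] {b : ℕ} (c : Fin b → k) (f : Fin b → (P ⟶ Q))
    (g : Q ⟶ W) : (∑ i, c i • f i) ≫ g = ∑ i, c i • (f i ≫ g) := by
  simp [Preadditive.sum_comp]

theorem components_eq_zero {b : ℕ} (T : Fin b → C) [HasBiproduct T] [HasCoproduct T] {R : C}
    (x : ∀ i, R ⟶ T i) (h : ∑ i, x i ≫ Sigma.ι T i = 0) (i : Fin b) : x i = 0 := by
  have h1 := congrArg (fun f => f ≫ (biproduct.isoCoproduct T).inv ≫ biproduct.π T i) h
  simp only [Preadditive.sum_comp, Category.assoc, zero_comp] at h1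
  rw [Finset.sum_eq_single i (fun j _ hj => ?_) (by simp)] at h1
  · simpa using h1
  · simp [biproduct.ι_π_ne _ hj]

end Generic

section Tensor

variable {K V W : Type*} [CommRing K] [AddCommGroup V] [Module K V] [AddCommGroup W] [Module K W]

theorem coeff_eq_zero {b : ℕ} (w : Module.Basis (Fin b) K W) (x : Fin b → V)
    (h : ∑ i, x i ⊗ₜ[K] w i = 0) (j : Fin b) : x j = 0 := by
  classical
  have h1 := congrArg (fun t => TensorProduct.rid K V ((w.coord j).lTensor V t)) h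
  simpa [map_sum, Finsupp.single_apply] using h1

theorem exists_sum_tmul {b : ℕ} (sc : Fin b → W) (h : ∀ s : W, ∃ c : Fin b → K, s = ∑ i, c i • sc i)
    (t : V ⊗[K] W) : ∃ x : Fin b → V, t = ∑ i, x i ⊗ₜ[K] sc i := by
  induction t using TensorProduct.induction_on with
  | zero => exact ⟨fun _ => 0, by simp⟩
  | tmul y s =>
    obtain ⟨c, rfl⟩ := h s
    exact ⟨fun i => c i • y, by simp [tmul_sum, tmul_smul, smul_tmul']⟩
  | add a b ha hb =>
    obtain ⟨xa, rfl⟩ := ha
    obtain ⟨xb, rfl⟩ := hb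
    exact ⟨xa + xb, by simp [add_tmul, Finset.sum_add_distrib]⟩

end Tensor

end Groth.Agent.GaetaP2
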