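import Groth.Agent.GaetaP2.Basic

/-!
# Gaeta resolutions on the projective plane
-/

set_option autoImplicit false
set_option linter.style.haveILetI false
set_option linter.unusedSectionVars false
set_option backward.isDefEq.respectTransparency false
set_option backward.isDefEq.respectTransparency.types false
set_option maxHeartbeats 400000

universe u

open CategoryTheory CategoryTheory.Limits AlgebraicGeometry TopologicalSpace Opposite TensorProduct

noncomputable section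

namespace Groth.Agent.GaetaP2

open Groth.Agent Groth.Agent.RegEpi Groth.Agent.PnCoh.Finite Groth.Agent.ProjRegular

variable {k : Type u} [Field k]

local notation "P2" => Proj (CohB1.polyGrading 2 k)
local notation "OP" => Coh.structureModule (Proj (CohB1.polyGrading 2 k))
local notation "Ptw" => Twist.twist (CohB1.polyGrading 2 k)

/-- The converse direction. -/
theorem conditions_of_gaeta {α₁ α₂ α₃ : ℕ} {F : (Proj (CohB1.polyGrading 2 k)).Modules}
    (S : ShortComplex (Proj (CohB1.polyGrading 2 k)).Modules) (hS : S.ShortExact)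
    (e₁ : S.X₁ ≅ ∐ fun _ : Fin α₁ => Ptw (-2))
    (e₂ : S.X₂ ≅ (∐ fun _ : Fin α₂ => Ptw (-1)) ⊞ (∐ fun _ : Fin α₃ => OP)) (e₃ : S.X₃ ≅ F) :
    Van 0 ((twF (k := k) (n := 2) (-1)).obj F) ∧ Van 2 ((twF (k := k) (n := 2) (-1)).obj F) ∧
    Van 1 F ∧ Van 2 F ∧ Van 1 ((twF (k := k) (n := 2) 1).obj F) ∧ Van 2 ((twF (k := k) (n := 2) 1).obj F) ∧
    Function.Injective (TensorProduct.lift
      (CategoryTheory.Linear.comp (Ptw (-1)) OP F : (Ptw (-1) ⟶ OP) →ₗ[k] (OP ⟶ F) →ₗ[k] (Ptw (-1) ⟶ F))) := by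
  classical
  haveI := Abelian.hasFiniteBiproducts (C := (Proj (CohB1.polyGrading 2 k)).Modules)
  haveI : AlgebraicGeometry.IsNoetherian P2 := Proj16.isNoetherian_proj _
  have h₁ : ∀ (d : ℤ) (q : ℕ), ¬(q = 0 ∧ 2 ≤ d) → ¬(q = 2 ∧ d ≤ -1) →
      Van q ((twF (k := k) (n := 2) d).obj S.X₁) := fun d q ha hb =>
    QCoh.subsingleton_HH_of_iso ((twF (k := k) (n := 2) d).mapIso e₁).symm q
      (van_tw_sum α₁ (-2) d q (fun h => ha ⟨h.1, by omega⟩) (fun h => hb ⟨h.1, by omega⟩))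
  have h₁high : ∀ (d : ℤ), Van 3 ((twF (k := k) (n := 2) d).obj S.X₁) := fun d =>
    h₁ d 3 (fun h => by omega) (fun h => by omega)
  have h₂ : ∀ (d : ℤ) (q : ℕ), ¬(q = 0 ∧ 0 ≤ d) → ¬(q = 2 ∧ d ≤ -2) →
      Van q ((twF (k := k) (n := 2) d).obj S.X₂) := fun d q ha hb =>
    QCoh.subsingleton_HH_of_iso ((twF (k := k) (n := 2) d).mapIso e₂).symm q (van_mid α₂ α₃ d q ha hb)
  have hv : ∀ (d : ℤ) (q : ℕ), Van q ((twF (k := k) (n := 2) d).obj S.X₂) →
      Van (q + 1) ((twF (k := k) (n := 2) d).obj S.X₁) → Van q ((twF (k := k) (n := 2) d).obj F) :=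
    fun d q a b => QCoh.subsingleton_HH_of_iso ((twF (k := k) (n := 2) d).mapIso e₃) q
      (PnCoh.Finite.subsingleton_HH_X₃ (twSES (f := S.f) (g := S.g) (w := S.zero) hS d) q a b)
  refine ⟨hv _ _ (h₂ _ _ (fun h => by omega) (fun h => by omega)) (h₁ _ _ (fun h => by omega) (fun h => by omega)),
    hv _ _ (h₂ _ _ (fun h => by omega) (fun h => by omega)) (h₁high _),
    van_untw 1 (hv _ _ (h₂ _ _ (fun h => by omega) (fun h => by omega)) (h₁ _ _ (fun h => by omega) (fun h => by omega))),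
    van_untw 2 (hv _ _ (h₂ _ _ (fun h => by omega) (fun h => by omega)) (h₁high _)),
    hv _ _ (h₂ _ _ (fun h => by omega) (fun h => by omega)) (h₁ _ _ (fun h => by omega) (fun h => by omega)),
    hv _ _ (h₂ _ _ (fun h => by omega) (fun h => by omega)) (h₁high _), ?_⟩
  let T := ShortComplex.mk (S.f ≫ e₂.hom) (e₂.inv ≫ S.g ≫ e₃.hom) (by simp)
  let eT : S ≅ T := ShortComplex.isoMk (Iso.refl _) e₂ e₃ (by simp [T]) (by simp [T])
  have hT : T.ShortExact := ShortComplex.shortExact_of_iso eT hS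
  let sc : Fin α₃ → (OP ⟶ F) := fun i => Sigma.ι (fun _ : Fin α₃ => OP) i ≫ biprod.inr ≫ T.g
  -- sections of `F` come from the copies of `O`
  have hspan : ∀ s : OP ⟶ F, ∃ c : Fin α₃ → k, s = ∑ i, c i • sc i := by
    intro s
    have hsur : Function.Surjective (T.g.app ⊤) := QCoh.app_top_surjective_of_HH_one hT
      (van_untw 1 (h₁ 0 1 (fun h => by omega) (fun h => by omega)))
    obtain ⟨t, ht⟩ := hsur (one s)
    have hl : InvX.ofSect t ≫ T.g = s := hom_eq_of_one_eq _ _ (by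
      show T.g.app ⊤ (one (InvX.ofSect t)) = one s
      rw [one_ofSect, ht])
    have hfst : InvX.ofSect t ≫ biprod.fst = 0 :=
      hom_zero_of_van (van_untw 0 (van_tw_sum α₂ (-1) 0 0 (fun h => by omega) (fun h => by omega))) _
    choose c hc using fun i => Syzygy.endo_eq_smul_id (k := k) (S14439.hyp k 2).one
      ((InvX.ofSect t ≫ biprod.snd) ≫ (biproduct.isoCoproduct fun _ : Fin α₃ => OP).inv ≫ biproduct.π _ i)
    refine ⟨c, ?_⟩
    have hsnd : InvX.ofSect t ≫ biprod.snd = ∑ i, c i • Sigma.ι (fun _ : Fin α₃ => OP) i := by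
      rw [eq_sum_components (fun _ : Fin α₃ => OP) (InvX.ofSect t ≫ biprod.snd)]
      exact Finset.sum_congr rfl fun i _ => by rw [hc, Linear.smul_comp, Category.id_comp]
    have hs : InvX.ofSect t = (∑ i, c i • Sigma.ι (fun _ : Fin α₃ => OP) i) ≫ biprod.inr := by
      rw [← hsnd]
      conv_lhs => rw [eq_biprod (InvX.ofSect t), hfst, zero_comp, zero_add]
    rw [← hl, hs, Category.assoc, smul_sum_comp]
  -- no maps `O(-1) → O(-2)^α₁`
  have hno : ∀ g : Ptw (-1) ⟶ T.X₁, g = 0 :=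
    hom_zero_of_van_tw 1 (h₁ 1 0 (fun h => by omega) (fun h => by omega))
  rw [injective_iff_map_eq_zero]
  intro t ht
  obtain ⟨x, rfl⟩ := exists_sum_tmul sc hspan t
  have hg : ((∑ i, x i ≫ Sigma.ι (fun _ : Fin α₃ => OP) i) ≫ biprod.inr) ≫ T.g = 0 := by
    rw [← ht, map_sum, Preadditive.sum_comp, Preadditive.sum_comp]
    refine Finset.sum_congr rfl fun i _ => ?_
    simp only [Category.assoc]
    rfl
  haveI := hT.mono_f
  let l := hT.exact.lift _ hg
  have hl : l ≫ T.f = _ := hT.exact.lift_f _ hg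
  rw [hno l, zero_comp] at hl
  have h0 : ∑ i, x i ≫ Sigma.ι (fun _ : Fin α₃ => OP) i = 0 := by
    rw [← cancel_mono (biprod.inr : (∐ fun _ : Fin α₃ => OP) ⟶ (∐ fun _ : Fin α₂ => Ptw (-1)) ⊞ _), zero_comp]
    exact hl.symm
  have hx := components_eq_zero (fun _ : Fin α₃ => OP) x h0
  exact Finset.sum_eq_zero fun i _ => by rw [hx i, TensorProduct.zero_tmul]

end Groth.Agent.GaetaP2
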