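import Groth.Agent.GaetaP2.Basic

/-!
# Gaeta resolutions on the projective plane
-/

set_option autoImplicit false
set_option linter.style.haveILetI false
set_option linter.unusedSectionVars false
set_option backward.isDefEq.respectTransparency false
set_option backward.isDefEq.respectTransparency.types false
set_option maxHeartbeats 1600000

universe u

open CategoryTheory CategoryTheory.Limits AlgebraicGeometry TopologicalSpace Opposite TensorProduct

noncomputable section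

namespace Groth.Agent.GaetaP2

open Groth.Agent Groth.Agent.RegEpi Groth.Agent.PnCoh.Finite Groth.Agent.ProjRegular

variable {k : Type u} [Field k]

local notation "P2" => Proj (CohB1.polyGrading 2 k)
local notation "OP" => Coh.structureModule (Proj (CohB1.polyGrading 2 k))
local notation "Ptw" => Twist.twist (CohB1.polyGrading 2 k)

/-- The forward direction. -/
theorem exists_gaeta {F : (Proj (CohB1.polyGrading 2 k)).Modules} (hF : Coh.IsCoh F)
    (h12 : Van 2 ((twF (k := k) (n := 2) (-1)).obj F)) (h01 : Van 1 F)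
    (hinj : Function.Injective (TensorProduct.lift
      (CategoryTheory.Linear.comp (Ptw (-1)) OP F : (Ptw (-1) ⟶ OP) →ₗ[k] (OP ⟶ F) →ₗ[k] (Ptw (-1) ⟶ F)))) :
    ∃ (α₁ α₂ α₃ : ℕ) (S : ShortComplex (Proj (CohB1.polyGrading 2 k)).Modules), S.ShortExact ∧
      Nonempty (S.X₁ ≅ ∐ fun _ : Fin α₁ => Ptw (-2)) ∧
      Nonempty (S.X₂ ≅ (∐ fun _ : Fin α₂ => Ptw (-1)) ⊞ (∐ fun _ : Fin α₃ => OP)) ∧ Nonempty (S.X₃ ≅ F) := by
  classical
  haveI := Abelian.hasFiniteBiproducts (C := (Proj (CohB1.polyGrading 2 k)).Modules)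
  haveI : AlgebraicGeometry.IsNoetherian P2 := Proj16.isNoetherian_proj _
  haveI := finite_hom' (k := k) isCoh_O hF
  haveI := finite_hom' (k := k) (isCoh_line (-1)) hF
  set m := TensorProduct.lift
    (CategoryTheory.Linear.comp (Ptw (-1)) OP F : (Ptw (-1) ⟶ OP) →ₗ[k] (OP ⟶ F) →ₗ[k] (Ptw (-1) ⟶ F))
  let w := Module.finBasis k (OP ⟶ F)
  obtain ⟨C, hC⟩ := (LinearMap.range m).exists_isCompl
  let v := Module.finBasis k C
  set α₂ := Module.finrank k C
  set α₃ := Module.finrank k (OP ⟶ F)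
  let A := ∐ fun _ : Fin α₂ => Ptw (-1)
  let B := ∐ fun _ : Fin α₃ => OP
  let Φ : A ⊞ B ⟶ F := biprod.desc (Sigma.desc fun i => (v i : Ptw (-1) ⟶ F)) (Sigma.desc fun i => w i)
  -- surjectivity on maps out of `O`
  have hsO : ∀ g : OP ⟶ F, ∃ ψ, ψ ≫ Φ = g := fun g => by
    refine ⟨(∑ i, w.repr g i • Sigma.ι (fun _ : Fin α₃ => OP) i) ≫ biprod.inr, ?_⟩
    rw [Category.assoc, biprod.inr_desc, smul_sum_comp_desc]
    exact w.sum_repr g
  -- surjectivity on maps out of `O(-1)`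
  have hsT : ∀ g : Ptw (-1) ⟶ F, ∃ ψ, ψ ≫ Φ = g := fun g => by
    obtain ⟨y, hy, c, hc, rfl⟩ := Submodule.mem_sup.1 (hC.sup_eq_top.ge (Submodule.mem_top (x := g)))
    obtain ⟨t, rfl⟩ := hy
    suffices hm : ∀ t, ∃ ψ, ψ ≫ Φ = m t by
      obtain ⟨ψ, hψ⟩ := hm t
      refine ⟨ψ + (∑ i, v.repr ⟨c, hc⟩ i • Sigma.ι (fun _ : Fin α₂ => Ptw (-1)) i) ≫ biprod.inl, ?_⟩
      rw [Preadditive.add_comp, hψ, Category.assoc, biprod.inl_desc, smul_sum_comp_desc]
      congr 1
      have := congrArg (fun z : C => (z : Ptw (-1) ⟶ F)) (v.sum_repr ⟨c, hc⟩)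
      simpa only [Submodule.coe_sum, Submodule.coe_smul] using this
    intro t
    induction t using TensorProduct.induction_on with
    | zero => exact ⟨0, by rw [zero_comp, map_zero]⟩
    | tmul x s =>
      obtain ⟨ψ, hψ⟩ := hsO s
      exact ⟨x ≫ ψ, by rw [Category.assoc, hψ]; rfl⟩
    | add a b ha hb =>
      obtain ⟨ψa, ha⟩ := ha
      obtain ⟨ψb, hb⟩ := hb
      exact ⟨ψa + ψb, by rw [Preadditive.add_comp, ha, hb, map_add]⟩
  -- injectivity on maps out of `O(-1)`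
  have hiT : ∀ h : Ptw (-1) ⟶ A ⊞ B, h ≫ Φ = 0 → h = 0 := fun h hh => by
    have hdec := eq_biprod h
    choose c hc using fun i => endo_line (k := k) (-1)
      ((h ≫ biprod.fst) ≫ (biproduct.isoCoproduct fun _ : Fin α₂ => Ptw (-1)).inv ≫ biproduct.π _ i)
    let x : Fin α₃ → (Ptw (-1) ⟶ OP) := fun i =>
      (h ≫ biprod.snd) ≫ (biproduct.isoCoproduct fun _ : Fin α₃ => OP).inv ≫ biproduct.π _ i
    have hA : h ≫ biprod.fst = ∑ i, c i • Sigma.ι (fun _ : Fin α₂ => Ptw (-1)) i := by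
      rw [eq_sum_components (fun _ : Fin α₂ => Ptw (-1)) (h ≫ biprod.fst)]
      exact Finset.sum_congr rfl fun i _ => by rw [hc, Linear.smul_comp, Category.id_comp]
    have hB : h ≫ biprod.snd = ∑ i, x i ≫ Sigma.ι (fun _ : Fin α₃ => OP) i :=
      eq_sum_components (fun _ : Fin α₃ => OP) (h ≫ biprod.snd)
    have hz : ((∑ i, c i • v i : C) : Ptw (-1) ⟶ F) + m (∑ i, x i ⊗ₜ[k] w i) = 0 := by
      have h2 : (h ≫ biprod.fst) ≫ Sigma.desc (fun i => (v i : Ptw (-1) ⟶ F)) +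
          (h ≫ biprod.snd) ≫ Sigma.desc (fun i => w i) = 0 := (comp_desc h _ _).symm.trans hh
      rw [hA, hB, smul_sum_comp_desc, sum_comp_desc] at h2
      rw [map_sum, Submodule.coe_sum]
      exact h2
    have hm0 : ((∑ i, c i • v i : C) : Ptw (-1) ⟶ F) = 0 := by
      refine (Submodule.disjoint_def.1 hC.disjoint) _ ?_ (Submodule.coe_mem _)
      rw [eq_neg_of_add_eq_zero_left hz]
      exact neg_mem (LinearMap.mem_range_self m _)
    have hc0 : ∀ i, c i = 0 := Fintype.linearIndependent_iff.1 v.linearIndependent c (Subtype.ext hm0)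
    rw [hm0, zero_add] at hz
    have hx0 := (injective_iff_map_eq_zero m).1 hinj _ hz
    have hx : ∀ i, x i = 0 := coeff_eq_zero w x hx0
    rw [hdec, hA, hB, Finset.sum_eq_zero (fun i _ => by rw [hc0, zero_smul]),
      Finset.sum_eq_zero (fun i _ => by rw [hx, zero_comp]), zero_comp, zero_comp, add_zero]
  -- generation
  obtain ⟨hgg, -⟩ := ggen_of_van hF 1 (by rw [sub_self]; exact van_tw0 1 h01)
    (by rw [show (1 : ℤ) - 2 = -1 by norm_num]; exact h12)
  haveI : Epi Φ := by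
    obtain ⟨ι, p, hp⟩ := hgg
    haveI : Epi p := hp
    refine ⟨fun {W} a b hab => ?_⟩
    apply (twF (k := k) (n := 2) 1).map_injective
    refine (cancel_epi p).1 (Sigma.hom_ext _ _ fun i => ?_)
    suffices hφ : ∀ φ : OP ⟶ (twF (k := k) (n := 2) 1).obj F,
        φ ≫ (twF (k := k) (n := 2) 1).map a = φ ≫ (twF (k := k) (n := 2) 1).map b by
      exact (Category.assoc _ _ _).symm.trans ((hφ _).trans (Category.assoc _ _ _))
    intro φ
    obtain ⟨θ⟩ := nonempty_tw_line (k := k) 1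
    obtain ⟨g, hg⟩ := (twF (k := k) (n := 2) 1).map_surjective (θ.hom ≫ φ)
    obtain ⟨ψ, rfl⟩ := hsT g
    rw [← θ.inv_hom_id_assoc φ, ← hg]
    simp only [Category.assoc, ← Functor.map_comp, hab]
  let K := kernel Φ
  have hKc : Coh.IsCoh K := QCoh.isCoh_kernel (isCoh_mid α₂ α₃) hF Φ
  have hK01 : Van 0 ((twF (k := k) (n := 2) 1).obj K) := van_tw_of_hom_zero 1 fun g => by
    have h0 : (g ≫ kernel.ι Φ) ≫ Φ = 0 :=
      (Category.assoc _ _ _).trans ((congrArg (fun z => g ≫ z) (kernel.condition Φ)).trans comp_zero)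
    exact zero_of_comp_mono (kernel.ι Φ) (hiT _ h0)
  have hM11 := van_mid (k := k) α₂ α₃ 1 1 (fun h => absurd h.1 (by decide)) (fun h => absurd h.1 (by decide))
  have hM01 := van_mid (k := k) α₂ α₃ 0 1 (fun h => absurd h.1 (by decide)) (fun h => absurd h.1 (by decide))
  have hM02 := van_mid (k := k) α₂ α₃ 0 2 (fun h => absurd h.1 (by decide)) (fun h => absurd h.2 (by norm_num))
  have hK11 : Van 1 ((twF (k := k) (n := 2) 1).obj K) :=
    van_kernel_one Φ 1 hM11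
      (surj_tw Φ 1 hsT)
  have hK10 : Van 1 K := by
    refine van_untw 1 (van_kernel_one Φ 0 hM01 (surj_tw Φ 0 fun g => ?_))
    obtain ⟨e⟩ : Nonempty (Ptw (-(0 : ℤ)) ≅ OP) := by
      obtain ⟨φ⟩ := unitIso (k := k) (n := 2)
      exact ⟨eqToIso (by rw [neg_zero]) ≪≫ φ.symm⟩
    obtain ⟨ψ, hψ⟩ := hsO (e.inv ≫ g)
    exact ⟨e.hom ≫ ψ, by rw [Category.assoc, hψ, e.hom_inv_id_assoc]⟩
  have hK20 : Van 2 K := van_untw 2 (van_kernel_succ Φ 0 1 hM02 (van_tw0 1 h01))
  obtain ⟨a, ⟨e⟩⟩ := exists_iso_sum hKc hK01 hK11 hK10 hK20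
  exact ⟨a, α₂, α₃, ShortComplex.mk (kernel.ι Φ) Φ (kernel.condition Φ),
    { exact := ShortComplex.exact_of_f_is_kernel _ (kernelIsKernel Φ) }, ⟨e⟩, ⟨Iso.refl _⟩, ⟨Iso.refl _⟩⟩

end Groth.Agent.GaetaP2
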