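import Groth.Agent.GaetaP2.Fwd
import Groth.Agent.GaetaP2.Conv

/-! Gaeta resolutions on the projective plane. -/
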